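import Groth.Agent.PhLib.Basic
import Mathlib

/-!
# ph coverings of schemes
-/

set_option autoImplicit false
set_option linter.style.haveILetI false

noncomputable section

universe w u

open AlgebraicGeometry CategoryTheory Limits

namespace PhLib

theorem Dom.mono {U : Scheme.{u}} {G G' : ∀ W : Scheme.{u}, (W ⟶ U) → Prop} (h : ∀ W k, G W k → G' W k)
    (hd : Dom G) : Dom G' := by
  obtain ⟨Z, π, h₁, h₂, h₃⟩ := hd
  exact ⟨Z, π, h₁, h₂, fun z => let ⟨V, hV, hG⟩ := h₃ z; ⟨V, hV, h _ _ hG⟩⟩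

/-- Schemes over `U` mapping to some member of a family over `T`. -/
def Lifts {T U : Scheme.{u}} (E : PreZeroHypercover.{w} T) (g : U ⟶ T) : ∀ W : Scheme.{u}, (W ⟶ U) → Prop :=
  fun W h => ∃ (i : E.I₀) (l : W ⟶ E.X i), l ≫ E.f i = h ≫ g

theorem stable_lifts {T U : Scheme.{u}} (E : PreZeroHypercover.{w} T) (g : U ⟶ T) : Stable (Lifts E g) := by
  rintro W W' a h ⟨i, l, hl⟩
  exact ⟨i, a ≫ l, by rw [Category.assoc, hl, Category.assoc]⟩

/-- The base change of a ph covering to any quasi-compact quasi-separated scheme is dominated. -/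
theorem dom_of_isPhCover {T V : Scheme.{u}} (E : PreZeroHypercover.{w} T) (hE : HTop.IsPhCover E) (g : V ⟶ T)
    [CompactSpace V] [QuasiSeparatedSpace V] : Dom (Lifts E g) := by
  refine Dom.of_local (stable_lifts E g) fun v => ?_
  obtain ⟨U, hU, hvU, -⟩ := exists_isAffineOpen_mem_and_subset (X := T) (x := g v) (U := ⊤) trivial
  obtain ⟨V', hV', hvV', hle⟩ := exists_isAffineOpen_mem_and_subset (X := V) (x := v) (U := g ⁻¹ᵁ U) hvU
  obtain ⟨F, hF, hFE⟩ := hE.2 ⟨U, hU⟩
  refine ⟨V', hV'.isCompact, hvV', Dom.mono ?_ ((Dom.of_standardPh (stable_lifts E U.ι) hF fun j => hFE j).baseChange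
    (stable_lifts E U.ι) (g.resLE U V' hle))⟩
  rintro W k ⟨i, l, hl⟩
  refine ⟨i, l, hl.trans ?_⟩
  rw [Category.assoc, Category.assoc, Scheme.Hom.resLE_comp_ι]

/-- Domination over every affine open makes a family of morphisms locally of finite type a ph covering. -/
theorem isPhCover_of_dom {T : Scheme.{u}} (E : PreZeroHypercover.{w} T) (hE : ∀ i, LocallyOfFiniteType (E.f i))
    (h : ∀ U : T.affineOpens, Dom (Lifts E (U : T.Opens).ι)) : HTop.IsPhCover E := by
  refine ⟨hE, fun U => ?_⟩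
  haveI : IsAffine ((U : T.Opens) : Scheme.{u}) := U.2
  obtain ⟨F, hF, hFG⟩ := exists_standardPh (stable_lifts E (U : T.Opens).ι) (h U)
  exact ⟨F, hF, fun j => hFG j⟩

/-- ph coverings are stable under base change. -/
theorem isPhCover_pullback₁ {T T' : Scheme.{u}} (g : T' ⟶ T) (E : PreZeroHypercover.{w} T)
    (hE : HTop.IsPhCover E) : HTop.IsPhCover (E.pullback₁ g) := by
  refine isPhCover_of_dom _ (fun i => ?_) fun U => ?_
  · haveI := hE.1 i
    exact inferInstanceAs (LocallyOfFiniteType (pullback.fst g (E.f i)))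
  haveI : IsAffine ((U : T'.Opens) : Scheme.{u}) := U.2
  refine Dom.mono ?_ (dom_of_isPhCover E hE ((U : T'.Opens).ι ≫ g))
  rintro W k ⟨i, l, hl⟩
  exact ⟨i, pullback.lift (k ≫ (U : T'.Opens).ι) l ((Category.assoc _ _ _).trans hl.symm), pullback.lift_fst _ _ _⟩

/-- ph coverings compose. -/
theorem isPhCover_bind {T : Scheme.{u}} (E : PreZeroHypercover.{w} T) (hE : HTop.IsPhCover E)
    (F : ∀ i, PreZeroHypercover.{w} (E.X i)) (hF : ∀ i, HTop.IsPhCover (F i)) : HTop.IsPhCover (E.bind F) := by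
  refine isPhCover_of_dom _ (fun r => ?_) fun U => ?_
  · haveI := hE.1 r.1
    haveI := (hF r.1).1 r.2
    exact inferInstanceAs (LocallyOfFiniteType ((F r.1).f r.2 ≫ E.f r.1))
  haveI : IsAffine ((U : T.Opens) : Scheme.{u}) := U.2
  refine Dom.trans (stable_lifts E (U : T.Opens).ι) (stable_lifts _ _)
    (dom_of_isPhCover E hE (U : T.Opens).ι) fun V k hV ⟨i, l, hl⟩ => ?_
  refine Dom.mono ?_ (dom_of_isPhCover (F i) (hF i) l)
  rintro W m ⟨j, n, hn⟩
  refine ⟨⟨i, j⟩, n, ?_⟩
  show n ≫ (F i).f j ≫ E.f i = (m ≫ k) ≫ _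
  rw [← Category.assoc, hn, Category.assoc, hl, Category.assoc]

/-- A dominated family on an affine scheme is refined by a standard ph covering. -/
theorem exists_standardPh_hom {T : Scheme.{u}} [IsAffine T] (E : PreZeroHypercover.{w} T)
    (h : Dom (Lifts E (𝟙 T))) : ∃ F : PreZeroHypercover.{0} T, HTop.IsStandardPh F ∧ Nonempty (F.Hom E) := by
  obtain ⟨F, hF, hFG⟩ := exists_standardPh (stable_lifts E _) h
  choose i l hl using hFG
  exact ⟨F, hF, ⟨⟨i, l, fun j => (hl j).trans (Category.comp_id _)⟩⟩⟩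

end PhLib
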