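import Groth.Agent.FinSurjLib.Zmt
import Groth.Agent.S7409
import Groth.Prelude.Def_HTop
import Mathlib

/-!
# Proper surjective covers with local sections, and their gluing
-/

set_option autoImplicit false
set_option linter.style.haveILetI false

noncomputable section

universe w u

open AlgebraicGeometry CategoryTheory Limits

namespace PhLib

theorem isProper_coprodDesc {A B S : Scheme.{u}} (f : A ⟶ S) (g : B ⟶ S) [hf : IsProper f] [hg : IsProper g] :
    IsProper (coprod.desc f g) := by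
  have h : coprod.desc f g = coprod.map f g ≫ coprod.desc (𝟙 S) (𝟙 S) := by
    rw [coprod.map_desc, Category.comp_id, Category.comp_id]
  haveI : IsProper (coprod.map f g) := IsZariskiLocalAtTarget.coprodMap (P := @IsProper) _ _ hf hg
  rw [h]
  infer_instance

/-- A predicate on schemes over `U` which passes to schemes mapping to one of its members. -/
def Stable {U : Scheme.{u}} (G : ∀ W : Scheme.{u}, (W ⟶ U) → Prop) : Prop :=
  ∀ (W W' : Scheme.{u}) (a : W' ⟶ W) (h : W ⟶ U), G W h → G W' (a ≫ h)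

/-- There is a proper surjective scheme over `U` every point of which has a neighbourhood satisfying `G`. -/
def Dom {U : Scheme.{u}} (G : ∀ W : Scheme.{u}, (W ⟶ U) → Prop) : Prop :=
  ∃ (Z : Scheme.{u}) (π : Z ⟶ U), IsProper π ∧ Surjective π ∧
    ∀ z : Z, ∃ V : Z.Opens, z ∈ V ∧ G V (V.ι ≫ π)

/-- Predicates on schemes over `U` pulled back to schemes over `U'`. -/
def restr {U U' : Scheme.{u}} (G : ∀ W : Scheme.{u}, (W ⟶ U) → Prop) (k : U' ⟶ U) :
    ∀ W : Scheme.{u}, (W ⟶ U') → Prop :=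
  fun W h => G W (h ≫ k)

theorem Stable.restr {U U' : Scheme.{u}} {G : ∀ W : Scheme.{u}, (W ⟶ U) → Prop} (hG : Stable G) (k : U' ⟶ U) :
    Stable (restr G k) := fun W W' a h hh => by
  show G W' ((a ≫ h) ≫ k)
  rw [Category.assoc]
  exact hG W W' a _ hh

theorem Dom.of_good {U : Scheme.{u}} {G : ∀ W : Scheme.{u}, (W ⟶ U) → Prop}
    (h : ∀ u : U, ∃ V : U.Opens, u ∈ V ∧ G V V.ι) : Dom G :=
  ⟨U, 𝟙 U, inferInstance, inferInstance, fun z => by simpa using h z⟩

theorem Dom.baseChange {U U' : Scheme.{u}} {G : ∀ W : Scheme.{u}, (W ⟶ U) → Prop} (hG : Stable G)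
    (k : U' ⟶ U) (h : Dom G) : Dom (PhLib.restr G k) := by
  obtain ⟨Z, π, _, _, hπ⟩ := h
  refine ⟨pullback k π, pullback.fst k π, inferInstance, inferInstance, fun z => ?_⟩
  obtain ⟨V, hV, hGV⟩ := hπ (pullback.snd k π z)
  refine ⟨pullback.snd k π ⁻¹ᵁ V, hV, ?_⟩
  show G _ _
  have : ((pullback.snd k π ⁻¹ᵁ V).ι ≫ pullback.fst k π) ≫ k = (pullback.snd k π ∣_ V) ≫ V.ι ≫ π := by
    rw [Category.assoc, pullback.condition, morphismRestrict_ι_assoc]
  rw [this]
  exact hG _ _ _ _ hGV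

/-- A proper surjective cover of a quasi-compact open extends to the whole scheme. -/
theorem exists_extension {U : Scheme.{u}} [CompactSpace U] [QuasiSeparatedSpace U]
    {G : ∀ W : Scheme.{u}, (W ⟶ U) → Prop} (hG : Stable G) (O : U.Opens) (hO : IsCompact (O : Set U))
    (h : Dom (restr G O.ι)) :
    ∃ (Z : Scheme.{u}) (π : Z ⟶ U), IsProper π ∧ Surjective π ∧
      ∀ z : Z, π z ∈ O → ∃ V : Z.Opens, z ∈ V ∧ G V (V.ι ≫ π) := by
  obtain ⟨Y, p, _, _, hp⟩ := h
  haveI : CompactSpace (O : Scheme.{u}) := isCompact_iff_compactSpace.mp hO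
  haveI : QuasiCompact O.ι := inferInstance
  obtain ⟨n, X', ρ, j, _, hj, _, _⟩ := Groth.Agent.S7409.result (p ≫ O.ι)
  let P := CohB1.ProjSpaceOver n U
  let q : P ⟶ U := CohB1.ProjSpaceOver.toBase n U
  haveI : IsProper q := ChowLib.isProper_toBase n U
  haveI : CompactSpace P := QuasiCompact.compactSpace_of_compactSpace q
  haveI : QuasiSeparatedSpace P := quasiSeparatedSpace_of_quasiSeparated q
  let W : P.Opens := q ⁻¹ᵁ O
  have hWc : IsCompact (W : Set P) := QuasiCompact.isCompact_preimage (f := q) _ O.2 hO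
  haveI : CompactSpace (W : Scheme.{u}) := isCompact_iff_compactSpace.mp hWc
  haveI : QuasiCompact W.ι := inferInstance
  have hle : Set.range j ⊆ Set.range W.ι := by
    rw [Scheme.Opens.range_ι]
    rintro _ ⟨x, rfl⟩
    show q (j x) ∈ O
    rw [← Scheme.Hom.comp_apply, show j ≫ q = ρ ≫ p ≫ O.ι from hj]
    exact (p (ρ x)).2
  let l : X' ⟶ (W : Scheme.{u}) := IsOpenImmersion.lift W.ι j hle
  have hl : l ≫ W.ι = j := IsOpenImmersion.lift_fac _ _ _
  have hlq : l ≫ (q ∣_ O) = ρ ≫ p := by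
    rw [← cancel_mono O.ι, Category.assoc, morphismRestrict_ι, ← Category.assoc, hl]
    exact hj.trans (Category.assoc _ _ _).symm
  haveI : IsProper (l ≫ (q ∣_ O)) := hlq ▸ inferInstance
  haveI : IsProper l := IsProper.of_comp l (q ∣_ O)
  haveI : Mono l := by
    haveI : Mono (l ≫ W.ι) := hl ▸ inferInstance
    exact mono_of_mono l W.ι
  haveI : IsClosedImmersion l := (IsClosedImmersion.iff_isProper_and_mono l).2 ⟨inferInstance, inferInstance⟩
  let κ : X' ⟶ P := l ≫ W.ι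
  haveI : IsImmersion κ := inferInstance
  haveI : IsOpenImmersion κ.toImage := inferInstance
  have hrange : κ.toImage.opensRange = κ.imageι ⁻¹ᵁ W := FinSurjLib.opensRange_toImage W l
  let K := Scheme.IdealSheafData.vanishingIdeal ⟨(O : Set U)ᶜ, O.2.isClosed_compl⟩
  haveI : IsFinite K.subschemeι := ((IsClosedImmersion.iff_isFinite_and_mono _).mp inferInstance).1
  haveI : IsFinite κ.imageι := ((IsClosedImmersion.iff_isFinite_and_mono _).mp inferInstance).1
  let inl : κ.image ⟶ κ.image ⨿ K.subscheme := coprod.inl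
  let π : κ.image ⨿ K.subscheme ⟶ U := coprod.desc (κ.imageι ≫ q) K.subschemeι
  have hi : (κ.toImage ≫ inl) ≫ π = (ρ ≫ p) ≫ O.ι := by
    rw [Category.assoc, coprod.inl_desc, Scheme.Hom.toImage_imageι_assoc]
    show (l ≫ W.ι) ≫ q = _
    rw [hl]
    exact hj.trans (Category.assoc _ _ _).symm
  refine ⟨_, π, isProper_coprodDesc _ _, ⟨fun s => ?_⟩, fun z hz => ?_⟩
  · by_cases hs : s ∈ O
    · obtain ⟨x, hx⟩ := (ρ ≫ p).surjective ⟨s, hs⟩
      refine ⟨(κ.toImage ≫ inl) x, ?_⟩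
      rw [← Scheme.Hom.comp_apply, hi, Scheme.Hom.comp_apply, hx]
      rfl
    · obtain ⟨z, hz⟩ : ∃ z, K.subschemeι z = s := by
        refine (Scheme.IdealSheafData.range_subschemeι K).ge ?_
        rw [Scheme.IdealSheafData.coe_support_vanishingIdeal]
        exact hs
      exact ⟨coprod.inr (C := Scheme.{u}) (X := κ.image) (Y := K.subscheme) z,
        by rw [← Scheme.Hom.comp_apply, coprod.inr_desc]; exact hz⟩
  · rcases (isCompl_range_inl_inr κ.image K.subscheme).codisjoint.top_le (Set.mem_univ z) with ⟨w, rfl⟩ | ⟨w, rfl⟩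
    · have hw : w ∈ κ.toImage.opensRange := by
        rw [hrange]
        show q (κ.imageι w) ∈ O
        rw [← Scheme.Hom.comp_apply]
        rwa [← Scheme.Hom.comp_apply, coprod.inl_desc] at hz
      obtain ⟨x, rfl⟩ := hw
      obtain ⟨V, hxV, hGV⟩ := hp (ρ x)
      let e : X' ⟶ κ.image ⨿ K.subscheme := κ.toImage ≫ inl
      refine ⟨e ''ᵁ (ρ ⁻¹ᵁ V), ⟨x, hxV, rfl⟩, ?_⟩
      have h1 : (e.isoImage (ρ ⁻¹ᵁ V)).inv ≫ ((ρ ∣_ V) ≫ ((V.ι ≫ p) ≫ O.ι)) = (e ''ᵁ (ρ ⁻¹ᵁ V)).ι ≫ π := by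
        rw [Iso.inv_comp_eq, Scheme.Hom.isoImage_hom_ι_assoc, hi]
        simp only [Category.assoc, morphismRestrict_ι_assoc]
      rw [← h1]
      exact hG _ _ _ _ (hG _ _ _ _ hGV)
    · exfalso
      have h1 := (Scheme.IdealSheafData.range_subschemeι K).le (Set.mem_range_self w)
      rw [Scheme.IdealSheafData.coe_support_vanishingIdeal] at h1
      refine h1 ?_
      show K.subschemeι w ∈ O
      rwa [← Scheme.Hom.comp_apply, coprod.inr_desc] at hz

/-- Being dominated is Zariski local on a quasi-compact quasi-separated scheme. -/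
theorem Dom.of_local {U : Scheme.{u}} [CompactSpace U] [QuasiSeparatedSpace U]
    {G : ∀ W : Scheme.{u}, (W ⟶ U) → Prop} (hG : Stable G)
    (h : ∀ u : U, ∃ O : U.Opens, IsCompact (O : Set U) ∧ u ∈ O ∧ Dom (PhLib.restr G O.ι)) : Dom G := by
  classical
  choose O hOc huO hO using h
  obtain ⟨s, hs⟩ := (isCompact_univ (X := U)).elim_finite_subcover (fun u => (O u : Set U)) (fun u => (O u).2)
    (fun u _ => Set.mem_iUnion.2 ⟨u, huO u⟩)
  suffices key : ∀ s : Finset U, ∃ (Z : Scheme.{u}) (π : Z ⟶ U), IsProper π ∧ Surjective π ∧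
      ∀ u ∈ s, ∀ z : Z, π z ∈ O u → ∃ V : Z.Opens, z ∈ V ∧ G V (V.ι ≫ π) by
    obtain ⟨Z, π, hπ, hs', H⟩ := key s
    refine ⟨Z, π, hπ, hs', fun z => ?_⟩
    obtain ⟨u, hu, hzu⟩ := Set.mem_iUnion₂.1 (hs (Set.mem_univ (π z)))
    exact H u hu z hzu
  intro s
  induction s using Finset.induction with
  | empty => exact ⟨U, 𝟙 U, inferInstance, inferInstance, fun u hu => absurd hu (Finset.notMem_empty u)⟩
  | insert u s _ ih =>
    obtain ⟨Z, π, hπ, hs', H⟩ := ih
    obtain ⟨Z', π', hπ', hs'', H'⟩ := exists_extension hG (O u) (hOc u) (hO u)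
    have key : ∀ {A : Scheme.{u}} (p : pullback π π' ⟶ A) (σ : A ⟶ U), p ≫ σ = pullback.fst π π' ≫ π →
        ∀ z, (∃ V : A.Opens, p z ∈ V ∧ G V (V.ι ≫ σ)) →
        ∃ V : (pullback π π').Opens, z ∈ V ∧ G V (V.ι ≫ pullback.fst π π' ≫ π) := by
      rintro A p σ hpσ z ⟨V, hV, hGV⟩
      refine ⟨p ⁻¹ᵁ V, hV, ?_⟩
      rw [← hpσ, ← morphismRestrict_ι_assoc]
      exact hG _ _ _ _ hGV
    refine ⟨_, pullback.fst π π' ≫ π, inferInstance, inferInstance, fun u' hu' z hz => ?_⟩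
    rcases Finset.mem_insert.1 hu' with rfl | hu'
    · refine key (pullback.snd π π') π' pullback.condition.symm z (H' _ ?_)
      rw [pullback.condition, Scheme.Hom.comp_apply] at hz
      exact hz
    · exact key (pullback.fst π π') π rfl z (H u' hu' _ (by rwa [Scheme.Hom.comp_apply] at hz))

/-- Domination is transitive. -/
theorem Dom.trans {U : Scheme.{u}} [CompactSpace U] [QuasiSeparatedSpace U]
    {G₁ G : ∀ W : Scheme.{u}, (W ⟶ U) → Prop} (hG₁ : Stable G₁) (hG : Stable G) (h : Dom G₁)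
    (hstep : ∀ (V : Scheme.{u}) (k : V ⟶ U), IsAffine V → G₁ V k → Dom (PhLib.restr G k)) : Dom G := by
  obtain ⟨Z, π, _, _, hπ⟩ := h
  haveI : CompactSpace Z := QuasiCompact.compactSpace_of_compactSpace π
  haveI : QuasiSeparatedSpace Z := quasiSeparatedSpace_of_quasiSeparated π
  obtain ⟨Z', ρ, _, _, hρ⟩ := Dom.of_local (hG.restr π) fun z => by
    obtain ⟨V, hzV, hGV⟩ := hπ z
    obtain ⟨V', hV', hzV', hle⟩ := exists_isAffineOpen_mem_and_subset (U := V) hzV
    have h1 : G₁ V' (V'.ι ≫ π) := by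
      rw [← Z.homOfLE_ι hle, Category.assoc]
      exact hG₁ _ _ _ _ hGV
    obtain ⟨Y, σ, h₁, h₂, h₃⟩ := hstep _ _ hV' h1
    refine ⟨V', hV'.isCompact, hzV', Y, σ, h₁, h₂, fun y => ?_⟩
    obtain ⟨W, hW, hGW⟩ := h₃ y
    refine ⟨W, hW, ?_⟩
    show G W (((W.ι ≫ σ) ≫ V'.ι) ≫ π)
    rw [Category.assoc]
    exact hGW
  refine ⟨Z', ρ ≫ π, inferInstance, inferInstance, fun z => ?_⟩
  obtain ⟨W, hW, hGW⟩ := hρ z
  refine ⟨W, hW, ?_⟩
  rw [← Category.assoc]
  exact hGW

/-- A standard ph covering from a proper surjective cover. -/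
theorem exists_standardPh {U : Scheme.{u}} [IsAffine U] {G : ∀ W : Scheme.{u}, (W ⟶ U) → Prop} (hG : Stable G)
    (h : Dom G) : ∃ F : PreZeroHypercover.{0} U, HTop.IsStandardPh F ∧ ∀ j : F.I₀, G (F.X j) (F.f j) := by
  obtain ⟨Z, π, _, _, hπ⟩ := h
  haveI : CompactSpace Z := QuasiCompact.compactSpace_of_compactSpace π
  choose V hzV hGV using hπ
  choose V' hV' hzV' hle using fun z => exists_isAffineOpen_mem_and_subset (U := V z) (hzV z)
  obtain ⟨s, hs⟩ := (isCompact_univ (X := Z)).elim_finite_subcover (fun z => (V' z : Set Z)) (fun z => (V' z).2)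
    (fun z _ => Set.mem_iUnion.2 ⟨z, hzV' z⟩)
  let e := s.equivFin
  let F : PreZeroHypercover.{0} U :=
    ⟨Fin s.card, fun i => ((V' (e.symm i).1 : Z.Opens) : Scheme.{u}), fun i => (V' (e.symm i).1).ι ≫ π⟩
  refine ⟨F, ⟨inferInstance, (inferInstance : Finite (Fin s.card)), fun i => hV' _, Z, π,
    fun i => (V' (e.symm i).1).ι, inferInstance, inferInstance, fun i => inferInstance, fun i => rfl,
    fun z => ?_⟩, fun i => ?_⟩
  · obtain ⟨y, hy, hzy⟩ := Set.mem_iUnion₂.1 (hs (Set.mem_univ z))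
    refine ⟨e ⟨y, hy⟩, ?_⟩
    have h1 : z ∈ V' (e.symm (e ⟨y, hy⟩)).1 := by rw [e.symm_apply_apply]; exact hzy
    exact (Scheme.Opens.range_ι _).ge h1
  · show G _ ((V' (e.symm i).1).ι ≫ π)
    rw [← Z.homOfLE_ι (hle _), Category.assoc]
    exact hG _ _ _ _ (hGV _)

/-- A standard ph covering is a proper surjective cover. -/
theorem Dom.of_standardPh {U : Scheme.{u}} {G : ∀ W : Scheme.{u}, (W ⟶ U) → Prop} (hG : Stable G)
    {F : PreZeroHypercover.{w} U} (hF : HTop.IsStandardPh F) (h : ∀ j : F.I₀, G (F.X j) (F.f j)) : Dom G := by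
  obtain ⟨Z, π, ι, hπ, hs, hι, hιπ, hcov⟩ := hF.exists_proper
  refine ⟨Z, π, hπ, hs, fun z => ?_⟩
  obtain ⟨j, hj⟩ := hcov z
  haveI := hι j
  refine ⟨(ι j).opensRange, hj, ?_⟩
  have h1 : (ι j).isoOpensRange.inv ≫ F.f j = (ι j).opensRange.ι ≫ π := by
    rw [Iso.inv_comp_eq, Scheme.Hom.isoOpensRange_hom_ι_assoc, hιπ]
  rw [← h1]
  exact hG _ _ _ _ (h j)

end PhLib
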